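import Groth.Agent.VBCurve.K417.CompEul

/-!
# Gluing modules on the connected components; invertible modules of prescribed degrees
-/

set_option autoImplicit false
set_option linter.unusedVariables false
set_option linter.unusedSectionVars false
universe u
open CategoryTheory CategoryTheory.Limits AlgebraicGeometry TopologicalSpace

namespace K417.GlueComp

open Groth.Agent Scheme.Modules K706.Clopen K706.DimOne K706.CompSS K707.Base K707.Deg K417.CompEul
open Groth.Agent.VarietyA.DegRank (rk)

section glue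

theorem exists_glue' {Y : Scheme.{u}} {ι : Type} [Fintype ι] {W : ι → Y.Opens}
    (disj : ∀ i j, i ≠ j → W i ⊓ W j = ⊥) (N : ∀ i, (W i : Scheme.{u}).Modules) :
    ∃ G : Y.Modules, ∀ i, Nonempty (G.restrict (W i).ι ≅ N i) := by
  classical
  have hfb : HasFiniteBiproducts Y.Modules := HasFiniteBiproducts.of_hasFiniteCoproducts
  let f : ι → Y.Modules := fun i => (pushforward (W i).ι).obj (N i)
  refine ⟨⨁ f, fun i => ?_⟩
  let R := restrictFunctor (W i).ι
  have hR : R.Additive := inferInstance
  have h1 : R.map (biproduct.π f i) ≫ R.map (biproduct.ι f i) = 𝟙 _ := by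
    rw [← R.map_comp, ← R.map_id, ← biproduct.total (f := f), R.map_sum, Finset.sum_eq_single i]
    · intro j _ hj
      rw [R.map_comp]
      have hz : IsZero (R.obj (f j)) := isZero_restrict_push (W j) (disj j i hj) (N j)
      rw [hz.eq_of_tgt (R.map (biproduct.π f j)) 0, zero_comp]
    · intro h
      exact absurd (Finset.mem_univ i) h
  have h2 : R.map (biproduct.ι f i) ≫ R.map (biproduct.π f i) = 𝟙 _ := by
    rw [← R.map_comp, biproduct.ι_π_self, R.map_id]
  exact ⟨(Iso.mk (R.map (biproduct.π f i)) (R.map (biproduct.ι f i)) h1 h2) ≪≫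
    (restrictFunctorAdjCounitIso (W i).ι).app (N i)⟩

variable {Y : Scheme.{u}} {ι : Type u} [Fintype ι] {W : ι → Y.Opens}

/-- Modules on disjoint opens are the restrictions of a module on `Y`. -/
theorem exists_glue (disj : ∀ i j, i ≠ j → W i ⊓ W j = ⊥) (N : ∀ i, (W i : Scheme.{u}).Modules) :
    ∃ G : Y.Modules, ∀ i, Nonempty (G.restrict (W i).ι ≅ N i) := by
  let e := Fintype.equivFin ι
  obtain ⟨G, hG⟩ := exists_glue' (W := fun j => W (e.symm j))
    (fun i j hij => disj _ _ fun h => hij (e.symm.injective h)) (fun j => N (e.symm j))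
  refine ⟨G, fun i => ?_⟩
  have h1 := hG (e i)
  rw [Equiv.symm_apply_apply] at h1
  exact h1

theorem isInvertible_of_parts (cov : ∀ x, ∃ i, x ∈ W i) {G : Y.Modules}
    (h : ∀ i, PicF.IsInvertible (G.restrict (W i).ι)) : PicF.IsInvertible G := by
  refine CalgB.AmpleRel.isInvertible_of_restrict fun x => ?_
  obtain ⟨i, hi⟩ := cov x
  exact ⟨W i, hi, h i⟩

theorem isInvertible_iso {X : Scheme.{u}} {M N : X.Modules} (e : M ≅ N) (h : PicF.IsInvertible M) :
    PicF.IsInvertible N :=
  K707.TensL.rank_one_iff.1 (K707.Slope.rank_iso e (K707.TensL.rank_one_iff.2 h))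

theorem not_subsingleton_stalk {X : Scheme.{u}} {N : X.Modules} (h : PicF.IsInvertible N) (x : X) :
    ¬ Subsingleton (N.presheaf.stalk x) := by
  intro hs
  have h1 := finrank_stalk (K707.TensL.rank_one_iff.2 h) x
  rw [Module.finrank_zero_of_subsingleton] at h1
  exact absurd h1 (by norm_num)

end glue

/-- Invertible modules of every degree. -/
theorem exists_dg (k : Type u) [Field k] [IsAlgClosed k] (X : Scheme.{u}) [X.Over (Spec (CommRingCat.of k))]
    [IsIntegral X] [IsProper (X ↘ (Spec (CommRingCat.of k)))] (hdim : topologicalKrullDim X = 1) (d : ℤ) :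
    ∃ N : X.Modules, PicF.IsInvertible N ∧ dg k N = d := by
  rcases le_total d 0 with hd | hd
  · obtain ⟨N, i, hi, hN, h⟩ := K709.H0Bound.exists_neg k hdim d.natAbs (X := X)
    refine ⟨N, hN, ?_⟩
    rw [h]
    omega
  · obtain ⟨N, i, hi, hN, h⟩ := K709.H0Bound.exists_neg k hdim d.natAbs (X := X)
    obtain ⟨M, hM, ⟨e⟩⟩ := Grpsch.PicGrp.exists_inverse hN
    refine ⟨M, hM, ?_⟩
    have hNr := K707.TensL.rank_one_iff.2 hN
    have hMr := K707.TensL.rank_one_iff.2 hM
    have h1 := K707.TensL.dg_tensor k hdim hMr (isCoh_of_rank hNr)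
    rw [dg_iso k e, K709.H0Bound.dg_O, rk_of_rank hNr, h, Int.natAbs_of_nonneg hd] at h1
    push_cast at h1
    linarith

/-- Invertible modules are semistable. -/
theorem ss_of_inv {k : Type u} [Field k] {X : Scheme.{u}} [X.Over (Spec (CommRingCat.of k))]
    [IsIntegral X] [IsProper (X ↘ (Spec (CommRingCat.of k)))] (C : Crv k X) {N : X.Modules}
    (hN : PicF.IsInvertible N) : K707.Semi.SS k N := by
  intro F i hi hF
  have hNr := K707.TensL.rank_one_iff.2 hN
  have hr : rk N = 1 := rk_of_rank hNr
  have hFc := K707.Slope.coh_of_vb hF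
  have hle := K707.Semi.rk_le_of_mono C i hFc (isCoh_of_rank hNr)
  rw [hr] at hle ⊢
  rcases Nat.lt_or_ge 0 (rk F) with h | h
  · have h1 : rk F = 1 := by omega
    have h2 := K707.Semi.dg_le_of_mono C i hFc (isCoh_of_rank hNr) (by omega)
    rw [h1]
    simpa using h2
  · have h1 : rk F = 0 := by omega
    rw [K707.Semi.dg_of_vb_of_rk_eq_zero C hF h1, h1]
    simp

end K417.GlueComp
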