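import Groth.Agent.VBCurve.K706.CompSS
import Groth.Agent.CurvesC.DegIso
import Groth.Agent.Ega3B.TensRestrict
import Groth.Agent.Neron.K486.CompTop
import Groth.Agent.CalgB.AmpleRel
import Groth.Agent.VBCurve.K707.Semi
import Groth.Agent.VBCurve.K709.H0Bound
import Groth.Agent.Curves.K334.AmpleDeg
import Groth.Agent.Sga5.AmpleFib
import Groth.Agent.S2329
import Groth.Agent.Fga.PicMon

/-!
# The part of a module over a connected component, through the component as a curve

`Y` proper over `k`, `U` open and closed in `Y`.  `chi_Y (part U M) = chi_U (M|_U)`,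
`part U M ⊗ N ≅ part U (M ⊗ N)`, and for `U` connected, `Y` smooth of dimension one:
`c (part U M) = dg (M|_U) + rk (M|_U) chi (O_U)`, `a L (part U M) = rk (M|_U) dg (L|_U)`.
-/

set_option autoImplicit false
set_option linter.unusedVariables false
set_option linter.unusedSectionVars false
universe u
open CategoryTheory CategoryTheory.Limits AlgebraicGeometry TopologicalSpace

namespace K417.CompEul

open Groth.Agent Scheme.Modules K706.Clopen K706.DimOne K706.CompSS K707.Base K707.Deg
open Groth.Agent.VarietyA.DegRank (rk)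

section gen

variable {Y : Scheme.{u}} {U V : Y.Opens}

/-- An open and closed subscheme. -/
theorem isClosedImmersion_ι (h : IsClopen (U : Set Y)) : IsClosedImmersion U.ι := by
  have h1 : IsPreimmersion U.ι := inferInstance
  refine ⟨?_⟩
  refine ⟨U.ι.isOpenEmbedding.isEmbedding, ?_⟩
  have : Set.range U.ι = (U : Set Y) := by simp
  rw [this]
  exact h.1

theorem isIso_eta_of_isZero (h : U ⊓ V = ⊥) (h' : U ⊔ V = ⊤) {P : Y.Modules} (hz : IsZero (part V P)) :
    IsIso (eta U P) := by
  have hS := sq_shortExact (U := V) (V := U) (by rwa [inf_comm]) (by rwa [sup_comm]) P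
  exact hS.isIso_g_iff.2 hz

/-- The restriction of `part U M` to `U`. -/
noncomputable def resPart (U : Y.Opens) (M : Y.Modules) : (part U M).restrict U.ι ≅ M.restrict U.ι :=
  have := isIso_restrict_eta U M
  (asIso ((restrictFunctor U.ι).map (eta U M))).symm

theorem isZero_tensor_left {X : Scheme.{u}} {A : X.Modules} (B : X.Modules) (h : IsZero A) :
    IsZero (CohB1.tensorMod A B) := by
  have h1 : IsZero ((DCoh.tensorRightMod B).obj A) := Functor.map_isZero _ h
  exact h1

open Groth.Agent.Fga.PicMon in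
theorem nonempty_tensor_congr {X : Scheme.{u}} {A A' : X.Modules} (e : A ≅ A') (B : X.Modules) :
    Nonempty (CohB1.tensorMod A B ≅ CohB1.tensorMod A' B) := by
  rw [← mc_eq_iff, mc_tensor, mc_tensor, mc_eq e]

/-- `part U M ⊗ N ≅ part U (M ⊗ N)`. -/
theorem nonempty_part_tensor (h : U ⊓ V = ⊥) (h' : U ⊔ V = ⊤) (M N : Y.Modules) :
    Nonempty (CohB1.tensorMod (part U M) N ≅ part U (CohB1.tensorMod M N)) := by
  have hz : IsZero (part V (CohB1.tensorMod (part U M) N)) := by
    refine (pushforward V.ι).map_isZero ?_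
    exact IsZero.of_iso (isZero_tensor_left (N.restrict V.ι) (isZero_restrict_push U h (M.restrict U.ι)))
      (Ega3B.TensRestrict.restrictIso V.ι (part U M) N)
  have h1 := isIso_eta_of_isZero h h' hz
  obtain ⟨e0⟩ := nonempty_tensor_congr (resPart U M) (N.restrict U.ι)
  have e2 : (CohB1.tensorMod (part U M) N).restrict U.ι ≅
      CohB1.tensorMod ((part U M).restrict U.ι) (N.restrict U.ι) :=
    Ega3B.TensRestrict.restrictIso U.ι (part U M) N
  have e3 : (CohB1.tensorMod M N).restrict U.ι ≅ CohB1.tensorMod (M.restrict U.ι) (N.restrict U.ι) :=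
    Ega3B.TensRestrict.restrictIso U.ι M N
  have e1 : (CohB1.tensorMod (part U M) N).restrict U.ι ≅ (CohB1.tensorMod M N).restrict U.ι :=
    e2 ≪≫ e0 ≪≫ e3.symm
  have e4 : CohB1.tensorMod (part U M) N ≅ part U (CohB1.tensorMod (part U M) N) :=
    @asIso _ _ _ _ _ h1
  have e5 : part U (CohB1.tensorMod (part U M) N) ≅ part U (CohB1.tensorMod M N) :=
    (pushforward U.ι).mapIso e1
  exact ⟨e4 ≪≫ e5⟩

end gen

section curve

variable (k : Type u) [Field k] {Y : Scheme.{u}} [Y.Over (Spec (CommRingCat.of k))]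
variable {U V : Y.Opens} [(U : Scheme.{u}).Over (Spec (CommRingCat.of k))]
  (hov : U.ι ≫ (Y ↘ Spec (CommRingCat.of k)) = (U : Scheme.{u}) ↘ Spec (CommRingCat.of k))

include hov in
theorem c_part (hU : IsClopen (U : Set Y)) (M : Y.Modules) : c k (part U M) = Curv2.euler k U (M.restrict U.ι) := by
  have := isClosedImmersion_ι hU
  exact CurvesC.DegIso.euler_push k U.ι hov _

include hov in
theorem c_part_tensor (hU : IsClopen (U : Set Y)) (M N : Y.Modules) :
    c k (CohB1.tensorMod (part U M) N) = Curv2.euler k U (CohB1.tensorMod (M.restrict U.ι) (N.restrict U.ι)) := by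
  obtain ⟨e⟩ := nonempty_part_tensor (inf_cpl U hU) (sup_cpl U hU) M N
  have h1 : c k (CohB1.tensorMod (part U M) N) = c k (part U (CohB1.tensorMod M N)) :=
    VarietyA.DegRank.euler_iso k e
  rw [h1, c_part k hov hU, VarietyA.DegRank.euler_iso k (Ega3B.TensRestrict.restrictIso U.ι M N)]

include hov in
theorem isProper_U [IsProper (Y ↘ Spec (CommRingCat.of k))] (hU : IsClopen (U : Set Y)) :
    IsProper ((U : Scheme.{u}) ↘ Spec (CommRingCat.of k)) := by
  have := isClosedImmersion_ι hU
  rw [← hov]
  infer_instance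

include hov in
theorem smooth_U [Smooth (Y ↘ Spec (CommRingCat.of k))] : Smooth ((U : Scheme.{u}) ↘ Spec (CommRingCat.of k)) := by
  rw [← hov]
  infer_instance

include hov in
theorem isIntegral_U [Smooth (Y ↘ Spec (CommRingCat.of k))] (hUc : _root_.IsConnected (U : Set Y)) :
    IsIntegral (U : Scheme.{u}) := by
  have h1 := smooth_U k hov
  have h2 : ConnectedSpace (U : Scheme.{u}) := isConnected_iff_connectedSpace.mp hUc
  exact K486.CompTop.isIntegral_of_connected ((U : Scheme.{u}) ↘ Spec (CommRingCat.of k))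

theorem dim_U (hdim : topologicalKrullDim Y = 1) (hpure : ∀ y : Y, ¬ IsOpen ({y} : Set Y))
    [IsIntegral (U : Scheme.{u})] : topologicalKrullDim (U : Scheme.{u}) = 1 := by
  refine le_antisymm ?_ ?_
  · rw [← hdim]
    exact U.ι.isOpenEmbedding.isInducing.topologicalKrullDim_le
  · obtain ⟨x, hx⟩ : ∃ x : (U : Scheme.{u}), x ≠ genericPoint (U : Scheme.{u}) := by
      by_contra hcon
      push Not at hcon
      apply hpure (U.ι (genericPoint (U : Scheme.{u})))
      have : ({U.ι (genericPoint (U : Scheme.{u}))} : Set Y) = (U : Set Y) := by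
        ext y
        constructor
        · rintro rfl
          exact (genericPoint (U : Scheme.{u})).2
        · intro hy
          have h1 := hcon ⟨y, hy⟩
          exact congrArg (fun z : (U : Scheme.{u}) => U.ι z) h1
      rw [this]
      exact U.2
    rw [topologicalKrullDim, Order.one_le_krullDim_iff]
    refine ⟨⟨closure {x}, isIrreducible_singleton.closure, isClosed_closure⟩,
      ⟨Set.univ, IrreducibleSpace.isIrreducible_univ _, isClosed_univ⟩, ?_⟩
    refine lt_of_le_of_ne (fun _ _ => trivial) ?_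
    intro h
    have h1 : closure {x} = (Set.univ : Set (U : Scheme.{u})) := congrArg (fun Z : IrreducibleCloseds (U : Scheme.{u}) => (Z : Set (U : Scheme.{u}))) h
    exact hx (IsGenericPoint.eq (S := Set.univ) h1 (genericPoint_spec (U : Scheme.{u})))

section num

variable [IsIntegral (U : Scheme.{u})] [IsProper ((U : Scheme.{u}) ↘ Spec (CommRingCat.of k))]

theorem coh_res {M : Y.Modules} (hM : Coh.IsCoh M) : Coh.IsCoh (M.restrict U.ι) :=
  PerfA.CohSerre.isCoh_restrict U.ι hM

include hov in
theorem c_part_eq (hU : IsClopen (U : Set Y)) (M : Y.Modules) :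
    c k (part U M) = dg k (M.restrict U.ι) + rk (M.restrict U.ι) * Curv2.euler k U (Coh.structureModule U) := by
  rw [c_part k hov hU, euler_eq_dg]

include hov in
theorem a_part_eq (hU : IsClopen (U : Set Y)) (hdimU : topologicalKrullDim (U : Scheme.{u}) = 1) {L : Y.Modules}
    (hL : PicF.IsInvertible L) {M : Y.Modules} (hM : Coh.IsCoh M) :
    a k L (part U M) = rk (M.restrict U.ι) * dg k (L.restrict U.ι) := by
  have h1 : FlatMod.IsFinLocFreeOfRank 1 (L.restrict U.ι) :=
    K707.TensL.rank_one_iff.2 (Flat2H.RelAmpleBasic.isInvertible_restrict hL U.ι)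
  have h2 : a k L (part U M) = c k (CohB1.tensorMod (part U M) L) - c k (part U M) := rfl
  rw [h2, c_part_tensor k hov hU, c_part_eq k hov hU, euler_eq_dg,
    K707.TensL.dg_tensor k hdimU h1 (coh_res hM), K707.TensL.rk_tensor h1 (coh_res hM)]
  push_cast
  ring

end num

end curve

/-! ### semistability of invertible modules on a component -/

section ss

variable {k : Type u} [Field k] {Y : Scheme.{u}} [Y.Over (Spec (CommRingCat.of k))]
  [IsProper (Y ↘ Spec (CommRingCat.of k))] {L : Y.Modules} (H : Pol Y L)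
variable {U V : Y.Opens} [(U : Scheme.{u}).Over (Spec (CommRingCat.of k))]
  (hov : U.ι ≫ (Y ↘ Spec (CommRingCat.of k)) = (U : Scheme.{u}) ↘ Spec (CommRingCat.of k))
  [IsIntegral (U : Scheme.{u})] [IsProper ((U : Scheme.{u}) ↘ Spec (CommRingCat.of k))]

include H in
theorem dgL_pos (hU : IsClopen (U : Set Y)) (hdimU : topologicalKrullDim (U : Scheme.{u}) = 1) :
    0 < dg k (L.restrict U.ι) := by
  have h0 := isClosedImmersion_ι hU
  have h1 : CohB1.IsAmple (L.restrict U.ι) :=
    S2329.isAmple_of_iso ((restrictFunctorIsoPullback U.ι).symm.app L) (Sga5.AmpleFib.isAmple_pullback U.ι H.amp)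
  have h2 := K334.AmpleDeg.deg_pos (k := k) (U : Scheme.{u}) hdimU h1
  rwa [dg_of_rank k (K707.TensL.rank_one_iff.2 h1.1)]

include hov H in
/-- A semistable bundle on the component is semistable on `Y`. -/
theorem ss_part (hU : IsClopen (U : Set Y)) (C : Crv k (U : Scheme.{u})) {N : Y.Modules}
    (hN : FlatMod.IsFinLocFree (N.restrict U.ι)) (hNc : Coh.IsCoh N) (h0 : 0 < rk (N.restrict U.ι))
    (hss : K707.Semi.SS k (N.restrict U.ι)) : ShStab.IsSemistable k Y L (part U N) 1 := by
  have hd := dgL_pos (k := k) H hU C.dim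
  have hnoeth := K707.Deg.isNoetherian k (X := Y)
  have d1 := inf_cpl U hU
  have d2 := sup_cpl U hU
  have hcN : Coh.IsCoh (part U N) := isCoh_part d1 d2 hNc
  rw [K706.DimOne.ss_iff H]
  refine ⟨hcN, ?_, ?_⟩
  · intro hz
    have h1 : IsZero ((part U N).restrict U.ι) := (restrictFunctor U.ι).map_isZero hz
    have h2 := K707.Slope.rk_of_isZero (IsZero.of_iso h1 (resPart U N).symm)
    omega
  · intro F i hi hF hF0
    have hz : IsZero (part (cpl U hU) F) := by
      have hm : Mono (pm (cpl U hU) i) := by
        have h1 : Mono ((restrictFunctor (cpl U hU).ι).map i) := inferInstance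
        exact inferInstanceAs (Mono ((pushforward (cpl U hU).ι).map ((restrictFunctor (cpl U hU).ι).map i)))
      exact IsZero.of_mono (pm (cpl U hU) i) (isZero_part_part d1 N)
    have he := isIso_eta_of_isZero d1 d2 hz
    have eF : F ≅ part U F := asIso (eta U F)
    have hres : Mono ((restrictFunctor U.ι).map i) := inferInstance
    let j : F.restrict U.ι ⟶ N.restrict U.ι := (restrictFunctor U.ι).map i ≫ (resPart U N).hom
    have hj : Mono j := mono_comp _ _
    have hFU : Coh.IsCoh (F.restrict U.ι) := coh_res hF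
    have hvF : FlatMod.IsFinLocFree (F.restrict U.ι) := K707.Slope.vb_of_mono C j hFU hN
    have hr0 : 0 < rk (F.restrict U.ι) := by
      rw [Nat.pos_iff_ne_zero]
      intro h
      have h1 := K707.Slope.isZero_of_rk_eq_zero C hvF h
      exact hF0 (IsZero.of_iso ((pushforward U.ι).map_isZero h1) eF)
    have hs := hss _ j hj hvF
    have ea : a k L F = rk (F.restrict U.ι) * dg k (L.restrict U.ι) := by
      rw [a_iso k eF, a_part_eq k hov hU C.dim H.amp.1 hF]
    have ec : c k F = dg k (F.restrict U.ι) + rk (F.restrict U.ι) * Curv2.euler k U (Coh.structureModule U) := by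
      rw [c_iso k eF, c_part_eq k hov hU]
    have eaN : a k L (part U N) = rk (N.restrict U.ι) * dg k (L.restrict U.ι) :=
      a_part_eq k hov hU C.dim H.amp.1 hNc
    have ecN := c_part_eq k hov hU N
    have hr0' : (0 : ℤ) < rk (F.restrict U.ι) := by exact_mod_cast hr0
    refine ⟨by rw [ea]; exact mul_pos hr0' hd, ?_⟩
    rw [ea, ec, eaN, ecN]
    have h3 : dg k (L.restrict U.ι) * (dg k (F.restrict U.ι) * rk (N.restrict U.ι)) ≤
        dg k (L.restrict U.ι) * (dg k (N.restrict U.ι) * rk (F.restrict U.ι)) :=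
      mul_le_mul_of_nonneg_left hs hd.le
    nlinarith

end ss

end K417.CompEul
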